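import Cfsg.Agent.Lib.ToddCox.A82C0.Data0
set_option autoImplicit false
set_option maxRecDepth 100000
namespace Cfsg.Agent.Lib.ToddCox.A82C0
def eT_0_2 (j : ℕ) : ℕ := bif Nat.blt j 1 then E_0 else E_1
def eT_2_4 (j : ℕ) : ℕ := bif Nat.blt j 3 then E_2 else E_3
def eT_0_4 (j : ℕ) : ℕ := bif Nat.blt j 2 then (eT_0_2 j) else (eT_2_4 j)
def eT (j : ℕ) : ℕ := (eT_0_4 j)
noncomputable def chunkF (h : ℕ) : ℕ := Nat.rec (motive := fun _ => ℕ) (eT 0) (fun n _ => eT (Nat.succ n)) h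
noncomputable def Eo (r : ℕ) : ℕ := Nat.land (Nat.shiftRight (chunkF (Nat.shiftRight r 8)) (Nat.mul (Nat.land r 255) 54)) 18014398509481983
def invT : ℕ := 0xffef7cefae78df6d74cf2c70beeb6caeaa689e69648e28607de75c6da6585d65544d24503ce34c2ca2481c61440c2040
def inv (y : ℕ) : ℕ := invOf invT y
def Wt_0_2 (j : ℕ) : List ℕ := bif Nat.blt j 1 then [nat_lit 3, nat_lit 5, nat_lit 1, nat_lit 3, nat_lit 1, nat_lit 0, nat_lit 5] else [nat_lit 3, nat_lit 0, nat_lit 3, nat_lit 0]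
def Wt_2_4 (j : ℕ) : List ℕ := bif Nat.blt j 3 then [nat_lit 2, nat_lit 0, nat_lit 5, nat_lit 1, nat_lit 2, nat_lit 5, nat_lit 0] else [nat_lit 2, nat_lit 5, nat_lit 0, nat_lit 2, nat_lit 0, nat_lit 5, nat_lit 1]
def Wt_0_4 (j : ℕ) : List ℕ := bif Nat.blt j 2 then (Wt_0_2 j) else (Wt_2_4 j)
def Wt_4_6 (j : ℕ) : List ℕ := bif Nat.blt j 5 then [nat_lit 0, nat_lit 1, nat_lit 0, nat_lit 1] else [nat_lit 2, nat_lit 1, nat_lit 2, nat_lit 1]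
def Wt_7_9 (j : ℕ) : List ℕ := bif Nat.blt j 8 then [nat_lit 3, nat_lit 5, nat_lit 0, nat_lit 3, nat_lit 5, nat_lit 3, nat_lit 5, nat_lit 0, nat_lit 3, nat_lit 5] else [nat_lit 0, nat_lit 5, nat_lit 0, nat_lit 5, nat_lit 0, nat_lit 5, nat_lit 0, nat_lit 5]
def Wt_6_9 (j : ℕ) : List ℕ := bif Nat.blt j 7 then [nat_lit 3, nat_lit 1, nat_lit 2, nat_lit 0, nat_lit 3, nat_lit 1, nat_lit 2, nat_lit 0, nat_lit 3, nat_lit 1, nat_lit 2, nat_lit 0] else (Wt_7_9 j)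
def Wt_4_9 (j : ℕ) : List ℕ := bif Nat.blt j 6 then (Wt_4_6 j) else (Wt_6_9 j)
def Wt_0_9 (j : ℕ) : List ℕ := bif Nat.blt j 4 then (Wt_0_4 j) else (Wt_4_9 j)
def Wt_9_11 (j : ℕ) : List ℕ := bif Nat.blt j 10 then [nat_lit 1, nat_lit 0, nat_lit 5, nat_lit 2, nat_lit 5, nat_lit 0, nat_lit 5, nat_lit 2, nat_lit 5] else [nat_lit 1, nat_lit 5, nat_lit 1, nat_lit 5, nat_lit 1, nat_lit 5, nat_lit 1, nat_lit 5]
def Wt_11_13 (j : ℕ) : List ℕ := bif Nat.blt j 12 then [nat_lit 2, nat_lit 5, nat_lit 1, nat_lit 5, nat_lit 2, nat_lit 5, nat_lit 1, nat_lit 5] else [nat_lit 0, nat_lit 5, nat_lit 2, nat_lit 5, nat_lit 1, nat_lit 0, nat_lit 5, nat_lit 2, nat_lit 5]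
def Wt_9_13 (j : ℕ) : List ℕ := bif Nat.blt j 11 then (Wt_9_11 j) else (Wt_11_13 j)
def Wt_13_15 (j : ℕ) : List ℕ := bif Nat.blt j 14 then [nat_lit 4, nat_lit 5, nat_lit 4, nat_lit 5, nat_lit 4, nat_lit 5, nat_lit 4, nat_lit 5] else [nat_lit 1, nat_lit 0, nat_lit 4, nat_lit 2, nat_lit 3, nat_lit 2, nat_lit 4]
def Wt_16_18 (j : ℕ) : List ℕ := bif Nat.blt j 17 then [nat_lit 1, nat_lit 5, nat_lit 2, nat_lit 3, nat_lit 5, nat_lit 1, nat_lit 5, nat_lit 2, nat_lit 3, nat_lit 5, nat_lit 1, nat_lit 5, nat_lit 2, nat_lit 3, nat_lit 5] else [nat_lit 2, nat_lit 0, nat_lit 5, nat_lit 1, nat_lit 2, nat_lit 3, nat_lit 5, nat_lit 2, nat_lit 0, nat_lit 5, nat_lit 1, nat_lit 2, nat_lit 3, nat_lit 5]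
def Wt_15_18 (j : ℕ) : List ℕ := bif Nat.blt j 16 then [nat_lit 0, nat_lit 1, nat_lit 4, nat_lit 2, nat_lit 3, nat_lit 2, nat_lit 4] else (Wt_16_18 j)
def Wt_13_18 (j : ℕ) : List ℕ := bif Nat.blt j 15 then (Wt_13_15 j) else (Wt_15_18 j)
def Wt_9_18 (j : ℕ) : List ℕ := bif Nat.blt j 13 then (Wt_9_13 j) else (Wt_13_18 j)
def Wt_0_18 (j : ℕ) : List ℕ := bif Nat.blt j 9 then (Wt_0_9 j) else (Wt_9_18 j)
def Wt_18_20 (j : ℕ) : List ℕ := bif Nat.blt j 19 then [nat_lit 0, nat_lit 2, nat_lit 1, nat_lit 0, nat_lit 2, nat_lit 5, nat_lit 0, nat_lit 2, nat_lit 1, nat_lit 0, nat_lit 2, nat_lit 5] else [nat_lit 3, nat_lit 5, nat_lit 1, nat_lit 3, nat_lit 5, nat_lit 3, nat_lit 5, nat_lit 1, nat_lit 3, nat_lit 5]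
def Wt_20_22 (j : ℕ) : List ℕ := bif Nat.blt j 21 then [nat_lit 1, nat_lit 4, nat_lit 3, nat_lit 2, nat_lit 0, nat_lit 4, nat_lit 0, nat_lit 1, nat_lit 4, nat_lit 3, nat_lit 2, nat_lit 0, nat_lit 4, nat_lit 0] else [nat_lit 5, nat_lit 0, nat_lit 4, nat_lit 0, nat_lit 5, nat_lit 0, nat_lit 4, nat_lit 0, nat_lit 5, nat_lit 0, nat_lit 4, nat_lit 0]
def Wt_18_22 (j : ℕ) : List ℕ := bif Nat.blt j 20 then (Wt_18_20 j) else (Wt_20_22 j)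
def Wt_22_24 (j : ℕ) : List ℕ := bif Nat.blt j 23 then [nat_lit 4, nat_lit 0, nat_lit 4, nat_lit 2, nat_lit 1, nat_lit 0, nat_lit 2, nat_lit 4, nat_lit 0] else [nat_lit 4, nat_lit 2, nat_lit 4, nat_lit 2, nat_lit 4, nat_lit 2]
def Wt_25_27 (j : ℕ) : List ℕ := bif Nat.blt j 26 then [nat_lit 5, nat_lit 2, nat_lit 4, nat_lit 2, nat_lit 5, nat_lit 2, nat_lit 4, nat_lit 2, nat_lit 5, nat_lit 2, nat_lit 4, nat_lit 2] else [nat_lit 3, nat_lit 2, nat_lit 4, nat_lit 1, nat_lit 0, nat_lit 4, nat_lit 2]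
def Wt_24_27 (j : ℕ) : List ℕ := bif Nat.blt j 25 then [nat_lit 1, nat_lit 4, nat_lit 2, nat_lit 3, nat_lit 2, nat_lit 4, nat_lit 0] else (Wt_25_27 j)
def Wt_22_27 (j : ℕ) : List ℕ := bif Nat.blt j 24 then (Wt_22_24 j) else (Wt_24_27 j)
def Wt_18_27 (j : ℕ) : List ℕ := bif Nat.blt j 22 then (Wt_18_22 j) else (Wt_22_27 j)
def Wt_27_29 (j : ℕ) : List ℕ := bif Nat.blt j 28 then [nat_lit 2, nat_lit 3, nat_lit 2, nat_lit 3, nat_lit 2, nat_lit 3] else [nat_lit 4, nat_lit 3, nat_lit 4, nat_lit 2, nat_lit 0, nat_lit 4, nat_lit 0, nat_lit 2]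
def Wt_30_32 (j : ℕ) : List ℕ := bif Nat.blt j 31 then [nat_lit 1, nat_lit 2, nat_lit 1, nat_lit 2] else [nat_lit 0, nat_lit 1, nat_lit 4, nat_lit 3, nat_lit 2, nat_lit 4, nat_lit 3, nat_lit 0, nat_lit 1, nat_lit 4, nat_lit 3, nat_lit 2, nat_lit 4, nat_lit 3]
def Wt_29_32 (j : ℕ) : List ℕ := bif Nat.blt j 30 then [nat_lit 0, nat_lit 3, nat_lit 0, nat_lit 3] else (Wt_30_32 j)
def Wt_27_32 (j : ℕ) : List ℕ := bif Nat.blt j 29 then (Wt_27_29 j) else (Wt_29_32 j)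
def Wt_32_34 (j : ℕ) : List ℕ := bif Nat.blt j 33 then [nat_lit 1, nat_lit 3, nat_lit 2, nat_lit 0, nat_lit 2, nat_lit 3] else [nat_lit 4, nat_lit 1, nat_lit 0, nat_lit 4, nat_lit 2, nat_lit 3, nat_lit 2]
def Wt_35_37 (j : ℕ) : List ℕ := bif Nat.blt j 36 then [nat_lit 2, nat_lit 0, nat_lit 2, nat_lit 0, nat_lit 2, nat_lit 0, nat_lit 2, nat_lit 0] else [nat_lit 3, nat_lit 1, nat_lit 3, nat_lit 0, nat_lit 2, nat_lit 0, nat_lit 2, nat_lit 0]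
def Wt_34_37 (j : ℕ) : List ℕ := bif Nat.blt j 35 then [nat_lit 1, nat_lit 0, nat_lit 1, nat_lit 0] else (Wt_35_37 j)
def Wt_32_37 (j : ℕ) : List ℕ := bif Nat.blt j 34 then (Wt_32_34 j) else (Wt_34_37 j)
def Wt_27_37 (j : ℕ) : List ℕ := bif Nat.blt j 32 then (Wt_27_32 j) else (Wt_32_37 j)
def Wt_18_37 (j : ℕ) : List ℕ := bif Nat.blt j 27 then (Wt_18_27 j) else (Wt_27_37 j)
def Wt_0_37 (j : ℕ) : List ℕ := bif Nat.blt j 18 then (Wt_0_18 j) else (Wt_18_37 j)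
def Wt_37_39 (j : ℕ) : List ℕ := bif Nat.blt j 38 then [nat_lit 4, nat_lit 0, nat_lit 2, nat_lit 4, nat_lit 3, nat_lit 4, nat_lit 2, nat_lit 0] else [nat_lit 0, nat_lit 4, nat_lit 0, nat_lit 2, nat_lit 4, nat_lit 3, nat_lit 4, nat_lit 2]
def Wt_39_41 (j : ℕ) : List ℕ := bif Nat.blt j 40 then [nat_lit 1, nat_lit 4, nat_lit 1, nat_lit 4, nat_lit 3, nat_lit 0, nat_lit 1, nat_lit 3, nat_lit 4] else [nat_lit 0, nat_lit 2, nat_lit 0, nat_lit 4, nat_lit 1, nat_lit 2, nat_lit 4, nat_lit 0, nat_lit 2, nat_lit 0, nat_lit 4, nat_lit 1, nat_lit 2, nat_lit 4]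
def Wt_37_41 (j : ℕ) : List ℕ := bif Nat.blt j 39 then (Wt_37_39 j) else (Wt_39_41 j)
def Wt_41_43 (j : ℕ) : List ℕ := bif Nat.blt j 42 then [nat_lit 5, nat_lit 0, nat_lit 2, nat_lit 0, nat_lit 5, nat_lit 1, nat_lit 2] else [nat_lit 1, nat_lit 2, nat_lit 3, nat_lit 2, nat_lit 0, nat_lit 2, nat_lit 3, nat_lit 2]
def Wt_44_46 (j : ℕ) : List ℕ := bif Nat.blt j 45 then [nat_lit 4, nat_lit 2, nat_lit 5, nat_lit 2, nat_lit 4, nat_lit 2, nat_lit 5, nat_lit 2, nat_lit 4, nat_lit 2, nat_lit 5, nat_lit 2] else [nat_lit 2, nat_lit 4, nat_lit 2, nat_lit 4, nat_lit 2, nat_lit 4]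
def Wt_43_46 (j : ℕ) : List ℕ := bif Nat.blt j 44 then [nat_lit 5, nat_lit 0, nat_lit 2, nat_lit 5, nat_lit 3, nat_lit 2, nat_lit 1, nat_lit 5, nat_lit 0, nat_lit 2, nat_lit 5, nat_lit 3, nat_lit 2, nat_lit 1] else (Wt_44_46 j)
def Wt_41_46 (j : ℕ) : List ℕ := bif Nat.blt j 43 then (Wt_41_43 j) else (Wt_43_46 j)
def Wt_37_46 (j : ℕ) : List ℕ := bif Nat.blt j 41 then (Wt_37_41 j) else (Wt_41_46 j)
def Wt_46_48 (j : ℕ) : List ℕ := bif Nat.blt j 47 then [nat_lit 3, nat_lit 4, nat_lit 2, nat_lit 0, nat_lit 4, nat_lit 0, nat_lit 2, nat_lit 4] else [nat_lit 3, nat_lit 0, nat_lit 3, nat_lit 2, nat_lit 0, nat_lit 1, nat_lit 3, nat_lit 0, nat_lit 3, nat_lit 2, nat_lit 0, nat_lit 1]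
def Wt_48_50 (j : ℕ) : List ℕ := bif Nat.blt j 49 then [nat_lit 2, nat_lit 1, nat_lit 3, nat_lit 1, nat_lit 2, nat_lit 1, nat_lit 3, nat_lit 1, nat_lit 2, nat_lit 1, nat_lit 3, nat_lit 1] else [nat_lit 0, nat_lit 2, nat_lit 0, nat_lit 2, nat_lit 0, nat_lit 2, nat_lit 0, nat_lit 2]
def Wt_46_50 (j : ℕ) : List ℕ := bif Nat.blt j 48 then (Wt_46_48 j) else (Wt_48_50 j)
def Wt_50_52 (j : ℕ) : List ℕ := bif Nat.blt j 51 then [nat_lit 4, nat_lit 1, nat_lit 2, nat_lit 4, nat_lit 0, nat_lit 2, nat_lit 0, nat_lit 4, nat_lit 1, nat_lit 2, nat_lit 4, nat_lit 0, nat_lit 2, nat_lit 0] else [nat_lit 0, nat_lit 3, nat_lit 1, nat_lit 0, nat_lit 2, nat_lit 3, nat_lit 0, nat_lit 3, nat_lit 1, nat_lit 0, nat_lit 2, nat_lit 3]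
def Wt_53_55 (j : ℕ) : List ℕ := bif Nat.blt j 54 then [nat_lit 1, nat_lit 0, nat_lit 1, nat_lit 3, nat_lit 0, nat_lit 3] else [nat_lit 5, nat_lit 1, nat_lit 3, nat_lit 1, nat_lit 0, nat_lit 5, nat_lit 3]
def Wt_52_55 (j : ℕ) : List ℕ := bif Nat.blt j 53 then [nat_lit 4, nat_lit 3, nat_lit 2, nat_lit 4, nat_lit 3, nat_lit 4, nat_lit 3, nat_lit 2, nat_lit 4, nat_lit 3, nat_lit 4, nat_lit 3, nat_lit 2, nat_lit 4, nat_lit 3] else (Wt_53_55 j)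
def Wt_50_55 (j : ℕ) : List ℕ := bif Nat.blt j 52 then (Wt_50_52 j) else (Wt_52_55 j)
def Wt_46_55 (j : ℕ) : List ℕ := bif Nat.blt j 50 then (Wt_46_50 j) else (Wt_50_55 j)
def Wt_37_55 (j : ℕ) : List ℕ := bif Nat.blt j 46 then (Wt_37_46 j) else (Wt_46_55 j)
def Wt_55_57 (j : ℕ) : List ℕ := bif Nat.blt j 56 then [nat_lit 5, nat_lit 0, nat_lit 5, nat_lit 0, nat_lit 5, nat_lit 0, nat_lit 5, nat_lit 0] else [nat_lit 1, nat_lit 5, nat_lit 2, nat_lit 5, nat_lit 0, nat_lit 5, nat_lit 2, nat_lit 5, nat_lit 0]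
def Wt_57_59 (j : ℕ) : List ℕ := bif Nat.blt j 58 then [nat_lit 1, nat_lit 3, nat_lit 1, nat_lit 0, nat_lit 3, nat_lit 5, nat_lit 1, nat_lit 3, nat_lit 1, nat_lit 0, nat_lit 3, nat_lit 5] else [nat_lit 0, nat_lit 2, nat_lit 3, nat_lit 1, nat_lit 3, nat_lit 2]
def Wt_55_59 (j : ℕ) : List ℕ := bif Nat.blt j 57 then (Wt_55_57 j) else (Wt_57_59 j)
def Wt_59_61 (j : ℕ) : List ℕ := bif Nat.blt j 60 then [nat_lit 2, nat_lit 4, nat_lit 3, nat_lit 4, nat_lit 2, nat_lit 0, nat_lit 4, nat_lit 0] else [nat_lit 4, nat_lit 2, nat_lit 0, nat_lit 3, nat_lit 1, nat_lit 4, nat_lit 2, nat_lit 0, nat_lit 3, nat_lit 1, nat_lit 4, nat_lit 2, nat_lit 0, nat_lit 3, nat_lit 1]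
def Wt_62_64 (j : ℕ) : List ℕ := bif Nat.blt j 63 then [nat_lit 3, nat_lit 4, nat_lit 3, nat_lit 4, nat_lit 2, nat_lit 3, nat_lit 4, nat_lit 3, nat_lit 4, nat_lit 2, nat_lit 3, nat_lit 4, nat_lit 3, nat_lit 4, nat_lit 2] else [nat_lit 4, nat_lit 1, nat_lit 3, nat_lit 0, nat_lit 2, nat_lit 4, nat_lit 1, nat_lit 3, nat_lit 0, nat_lit 2, nat_lit 4, nat_lit 1, nat_lit 3, nat_lit 0, nat_lit 2]
def Wt_61_64 (j : ℕ) : List ℕ := bif Nat.blt j 62 then [nat_lit 2, nat_lit 5, nat_lit 4, nat_lit 2, nat_lit 5, nat_lit 2, nat_lit 5, nat_lit 4, nat_lit 2, nat_lit 5, nat_lit 2, nat_lit 5, nat_lit 4, nat_lit 2, nat_lit 5] else (Wt_62_64 j)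
def Wt_59_64 (j : ℕ) : List ℕ := bif Nat.blt j 61 then (Wt_59_61 j) else (Wt_61_64 j)
def Wt_55_64 (j : ℕ) : List ℕ := bif Nat.blt j 59 then (Wt_55_59 j) else (Wt_59_64 j)
def Wt_64_66 (j : ℕ) : List ℕ := bif Nat.blt j 65 then [nat_lit 0, nat_lit 3, nat_lit 2, nat_lit 0, nat_lit 1, nat_lit 3, nat_lit 0, nat_lit 3, nat_lit 2, nat_lit 0, nat_lit 1, nat_lit 3] else [nat_lit 1, nat_lit 0, nat_lit 2, nat_lit 3, nat_lit 0, nat_lit 3, nat_lit 1, nat_lit 0, nat_lit 2, nat_lit 3, nat_lit 0, nat_lit 3]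
def Wt_67_69 (j : ℕ) : List ℕ := bif Nat.blt j 68 then [nat_lit 2, nat_lit 1, nat_lit 5, nat_lit 0, nat_lit 2, nat_lit 5, nat_lit 2, nat_lit 1, nat_lit 5, nat_lit 0, nat_lit 2, nat_lit 5] else [nat_lit 1, nat_lit 2, nat_lit 5, nat_lit 0, nat_lit 2, nat_lit 0, nat_lit 5]
def Wt_66_69 (j : ℕ) : List ℕ := bif Nat.blt j 67 then [nat_lit 5, nat_lit 2, nat_lit 1, nat_lit 5, nat_lit 3, nat_lit 5, nat_lit 2, nat_lit 1, nat_lit 5, nat_lit 3, nat_lit 5, nat_lit 2, nat_lit 1, nat_lit 5, nat_lit 3] else (Wt_67_69 j)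
def Wt_64_69 (j : ℕ) : List ℕ := bif Nat.blt j 66 then (Wt_64_66 j) else (Wt_66_69 j)
def Wt_69_71 (j : ℕ) : List ℕ := bif Nat.blt j 70 then [nat_lit 1, nat_lit 3, nat_lit 1, nat_lit 5, nat_lit 3, nat_lit 0, nat_lit 1, nat_lit 3, nat_lit 1, nat_lit 5, nat_lit 3, nat_lit 0] else [nat_lit 3, nat_lit 2, nat_lit 3, nat_lit 2, nat_lit 3, nat_lit 2]
def Wt_72_74 (j : ℕ) : List ℕ := bif Nat.blt j 73 then [nat_lit 63, nat_lit 0, nat_lit 1, nat_lit 4, nat_lit 2, nat_lit 3, nat_lit 2, nat_lit 4] else [nat_lit 1, nat_lit 1, nat_lit 63]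
def Wt_71_74 (j : ℕ) : List ℕ := bif Nat.blt j 72 then [nat_lit 4, nat_lit 5, nat_lit 4, nat_lit 5, nat_lit 1, nat_lit 4, nat_lit 5, nat_lit 4, nat_lit 5, nat_lit 1, nat_lit 4, nat_lit 5, nat_lit 4, nat_lit 5, nat_lit 1] else (Wt_72_74 j)
def Wt_69_74 (j : ℕ) : List ℕ := bif Nat.blt j 71 then (Wt_69_71 j) else (Wt_71_74 j)
def Wt_64_74 (j : ℕ) : List ℕ := bif Nat.blt j 69 then (Wt_64_69 j) else (Wt_69_74 j)
def Wt_55_74 (j : ℕ) : List ℕ := bif Nat.blt j 64 then (Wt_55_64 j) else (Wt_64_74 j)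
def Wt_37_74 (j : ℕ) : List ℕ := bif Nat.blt j 55 then (Wt_37_55 j) else (Wt_55_74 j)
def Wt_0_74 (j : ℕ) : List ℕ := bif Nat.blt j 37 then (Wt_0_37 j) else (Wt_37_74 j)
def Wt_74_76 (j : ℕ) : List ℕ := bif Nat.blt j 75 then [nat_lit 4, nat_lit 4, nat_lit 63] else [nat_lit 1, nat_lit 5, nat_lit 3, nat_lit 5, nat_lit 1, nat_lit 0, nat_lit 3]
def Wt_76_78 (j : ℕ) : List ℕ := bif Nat.blt j 77 then [nat_lit 5, nat_lit 4, nat_lit 5, nat_lit 4, nat_lit 5, nat_lit 4, nat_lit 5, nat_lit 4] else [nat_lit 5, nat_lit 4, nat_lit 5, nat_lit 1, nat_lit 4, nat_lit 5, nat_lit 4, nat_lit 5, nat_lit 1, nat_lit 4, nat_lit 5, nat_lit 4, nat_lit 5, nat_lit 1, nat_lit 4]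
def Wt_74_78 (j : ℕ) : List ℕ := bif Nat.blt j 76 then (Wt_74_76 j) else (Wt_76_78 j)
def Wt_78_80 (j : ℕ) : List ℕ := bif Nat.blt j 79 then [nat_lit 3, nat_lit 5, nat_lit 2, nat_lit 1, nat_lit 5, nat_lit 3, nat_lit 5, nat_lit 2, nat_lit 1, nat_lit 5, nat_lit 3, nat_lit 5, nat_lit 2, nat_lit 1, nat_lit 5] else [nat_lit 2, nat_lit 1, nat_lit 5, nat_lit 4, nat_lit 1, nat_lit 2, nat_lit 5, nat_lit 2, nat_lit 1, nat_lit 5, nat_lit 4, nat_lit 1, nat_lit 2, nat_lit 5]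
def Wt_81_83 (j : ℕ) : List ℕ := bif Nat.blt j 82 then [nat_lit 2, nat_lit 2, nat_lit 63] else [nat_lit 0, nat_lit 1, nat_lit 2, nat_lit 0, nat_lit 5, nat_lit 2, nat_lit 1, nat_lit 5, nat_lit 1]
def Wt_80_83 (j : ℕ) : List ℕ := bif Nat.blt j 81 then [nat_lit 63, nat_lit 0, nat_lit 2, nat_lit 1, nat_lit 0, nat_lit 3, nat_lit 5, nat_lit 3, nat_lit 5, nat_lit 2] else (Wt_81_83 j)
def Wt_78_83 (j : ℕ) : List ℕ := bif Nat.blt j 80 then (Wt_78_80 j) else (Wt_80_83 j)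
def Wt_74_83 (j : ℕ) : List ℕ := bif Nat.blt j 78 then (Wt_74_78 j) else (Wt_78_83 j)
def Wt_83_85 (j : ℕ) : List ℕ := bif Nat.blt j 84 then [nat_lit 3, nat_lit 1, nat_lit 0, nat_lit 5, nat_lit 3, nat_lit 5, nat_lit 2, nat_lit 1, nat_lit 2] else [nat_lit 4, nat_lit 0, nat_lit 5, nat_lit 0, nat_lit 4, nat_lit 0, nat_lit 5, nat_lit 0, nat_lit 4, nat_lit 0, nat_lit 5, nat_lit 0]
def Wt_85_87 (j : ℕ) : List ℕ := bif Nat.blt j 86 then [nat_lit 1, nat_lit 3, nat_lit 2, nat_lit 0, nat_lit 1, nat_lit 3, nat_lit 1, nat_lit 3, nat_lit 2, nat_lit 0, nat_lit 1, nat_lit 3] else [nat_lit 0, nat_lit 5, nat_lit 2, nat_lit 5, nat_lit 0, nat_lit 1, nat_lit 5, nat_lit 2, nat_lit 5]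
def Wt_83_87 (j : ℕ) : List ℕ := bif Nat.blt j 85 then (Wt_83_85 j) else (Wt_85_87 j)
def Wt_87_89 (j : ℕ) : List ℕ := bif Nat.blt j 88 then [nat_lit 1, nat_lit 2, nat_lit 3, nat_lit 5, nat_lit 2, nat_lit 0, nat_lit 5, nat_lit 1, nat_lit 2, nat_lit 3, nat_lit 5, nat_lit 2, nat_lit 0, nat_lit 5] else [nat_lit 5, nat_lit 2, nat_lit 5, nat_lit 2, nat_lit 4, nat_lit 5, nat_lit 2, nat_lit 5, nat_lit 2, nat_lit 4, nat_lit 5, nat_lit 2, nat_lit 5, nat_lit 2, nat_lit 4]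
def Wt_90_92 (j : ℕ) : List ℕ := bif Nat.blt j 91 then [nat_lit 3, nat_lit 2, nat_lit 0, nat_lit 1, nat_lit 3, nat_lit 0, nat_lit 3, nat_lit 2, nat_lit 0, nat_lit 1, nat_lit 3, nat_lit 0] else [nat_lit 2, nat_lit 1, nat_lit 3, nat_lit 0, nat_lit 2, nat_lit 1, nat_lit 3, nat_lit 0, nat_lit 2, nat_lit 1, nat_lit 3, nat_lit 0]
def Wt_89_92 (j : ℕ) : List ℕ := bif Nat.blt j 90 then [nat_lit 1, nat_lit 2, nat_lit 5, nat_lit 3, nat_lit 5, nat_lit 1, nat_lit 2, nat_lit 5, nat_lit 3, nat_lit 5, nat_lit 1, nat_lit 2, nat_lit 5, nat_lit 3, nat_lit 5] else (Wt_90_92 j)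
def Wt_87_92 (j : ℕ) : List ℕ := bif Nat.blt j 89 then (Wt_87_89 j) else (Wt_89_92 j)
def Wt_83_92 (j : ℕ) : List ℕ := bif Nat.blt j 87 then (Wt_83_87 j) else (Wt_87_92 j)
def Wt_74_92 (j : ℕ) : List ℕ := bif Nat.blt j 83 then (Wt_74_83 j) else (Wt_83_92 j)
def Wt_92_94 (j : ℕ) : List ℕ := bif Nat.blt j 93 then [nat_lit 4, nat_lit 0, nat_lit 1, nat_lit 4, nat_lit 3, nat_lit 2, nat_lit 0, nat_lit 4, nat_lit 0, nat_lit 1, nat_lit 4, nat_lit 3, nat_lit 2, nat_lit 0] else [nat_lit 3, nat_lit 4, nat_lit 3, nat_lit 2, nat_lit 4, nat_lit 3, nat_lit 4, nat_lit 3, nat_lit 2, nat_lit 4, nat_lit 3, nat_lit 4, nat_lit 3, nat_lit 2, nat_lit 4]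
def Wt_94_96 (j : ℕ) : List ℕ := bif Nat.blt j 95 then [nat_lit 2, nat_lit 3, nat_lit 4, nat_lit 3, nat_lit 4, nat_lit 2, nat_lit 3, nat_lit 4, nat_lit 3, nat_lit 4, nat_lit 2, nat_lit 3, nat_lit 4, nat_lit 3, nat_lit 4] else [nat_lit 1, nat_lit 2, nat_lit 4, nat_lit 0, nat_lit 2, nat_lit 0, nat_lit 4, nat_lit 1, nat_lit 2, nat_lit 4, nat_lit 0, nat_lit 2, nat_lit 0, nat_lit 4]
def Wt_92_96 (j : ℕ) : List ℕ := bif Nat.blt j 94 then (Wt_92_94 j) else (Wt_94_96 j)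
def Wt_96_98 (j : ℕ) : List ℕ := bif Nat.blt j 97 then [nat_lit 0, nat_lit 3, nat_lit 4, nat_lit 2, nat_lit 3, nat_lit 4, nat_lit 1, nat_lit 0, nat_lit 3, nat_lit 4, nat_lit 2, nat_lit 3, nat_lit 4, nat_lit 1] else [nat_lit 2, nat_lit 4, nat_lit 5, nat_lit 2, nat_lit 5, nat_lit 2, nat_lit 4, nat_lit 5, nat_lit 2, nat_lit 5, nat_lit 2, nat_lit 4, nat_lit 5, nat_lit 2, nat_lit 5]
def Wt_99_101 (j : ℕ) : List ℕ := bif Nat.blt j 100 then [nat_lit 3, nat_lit 2, nat_lit 0, nat_lit 1, nat_lit 3, nat_lit 1, nat_lit 3, nat_lit 2, nat_lit 0, nat_lit 1, nat_lit 3, nat_lit 1] else [nat_lit 4, nat_lit 5, nat_lit 1, nat_lit 4, nat_lit 5, nat_lit 4, nat_lit 5, nat_lit 1, nat_lit 4, nat_lit 5, nat_lit 4, nat_lit 5, nat_lit 1, nat_lit 4, nat_lit 5]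
def Wt_98_101 (j : ℕ) : List ℕ := bif Nat.blt j 99 then [nat_lit 3, nat_lit 2, nat_lit 5, nat_lit 1, nat_lit 5, nat_lit 3, nat_lit 2, nat_lit 5, nat_lit 1, nat_lit 5, nat_lit 3, nat_lit 2, nat_lit 5, nat_lit 1, nat_lit 5] else (Wt_99_101 j)
def Wt_96_101 (j : ℕ) : List ℕ := bif Nat.blt j 98 then (Wt_96_98 j) else (Wt_98_101 j)
def Wt_92_101 (j : ℕ) : List ℕ := bif Nat.blt j 96 then (Wt_92_96 j) else (Wt_96_101 j)
def Wt_101_103 (j : ℕ) : List ℕ := bif Nat.blt j 102 then [nat_lit 0, nat_lit 2, nat_lit 5, nat_lit 2, nat_lit 1, nat_lit 5, nat_lit 0, nat_lit 2, nat_lit 5, nat_lit 2, nat_lit 1, nat_lit 5] else [nat_lit 5, nat_lit 0, nat_lit 3, nat_lit 5, nat_lit 3, nat_lit 5, nat_lit 0, nat_lit 3, nat_lit 5, nat_lit 3]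
def Wt_104_106 (j : ℕ) : List ℕ := bif Nat.blt j 105 then [nat_lit 1, nat_lit 0, nat_lit 4, nat_lit 3, nat_lit 2, nat_lit 3, nat_lit 4] else [nat_lit 5, nat_lit 1, nat_lit 5, nat_lit 1, nat_lit 5, nat_lit 1, nat_lit 5, nat_lit 1]
def Wt_103_106 (j : ℕ) : List ℕ := bif Nat.blt j 104 then [nat_lit 2, nat_lit 3, nat_lit 2, nat_lit 4, nat_lit 1, nat_lit 0, nat_lit 4] else (Wt_104_106 j)
def Wt_101_106 (j : ℕ) : List ℕ := bif Nat.blt j 103 then (Wt_101_103 j) else (Wt_103_106 j)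
def Wt_106_108 (j : ℕ) : List ℕ := bif Nat.blt j 107 then [nat_lit 4, nat_lit 3, nat_lit 0, nat_lit 1, nat_lit 4, nat_lit 3, nat_lit 2, nat_lit 4, nat_lit 3, nat_lit 0, nat_lit 1, nat_lit 4, nat_lit 3, nat_lit 2] else [nat_lit 5, nat_lit 2, nat_lit 5, nat_lit 4, nat_lit 2, nat_lit 5, nat_lit 2, nat_lit 5, nat_lit 4, nat_lit 2, nat_lit 5, nat_lit 2, nat_lit 5, nat_lit 4, nat_lit 2]
def Wt_109_111 (j : ℕ) : List ℕ := bif Nat.blt j 110 then [nat_lit 0, nat_lit 4, nat_lit 0, nat_lit 5, nat_lit 0, nat_lit 4, nat_lit 0, nat_lit 5, nat_lit 0, nat_lit 4, nat_lit 0, nat_lit 5] else [nat_lit 3, nat_lit 5, nat_lit 3, nat_lit 5, nat_lit 0, nat_lit 3, nat_lit 5, nat_lit 3, nat_lit 5, nat_lit 0]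
def Wt_108_111 (j : ℕ) : List ℕ := bif Nat.blt j 109 then [nat_lit 3, nat_lit 5, nat_lit 1, nat_lit 5, nat_lit 2, nat_lit 3, nat_lit 5, nat_lit 1, nat_lit 5, nat_lit 2, nat_lit 3, nat_lit 5, nat_lit 1, nat_lit 5, nat_lit 2] else (Wt_109_111 j)
def Wt_106_111 (j : ℕ) : List ℕ := bif Nat.blt j 108 then (Wt_106_108 j) else (Wt_108_111 j)
def Wt_101_111 (j : ℕ) : List ℕ := bif Nat.blt j 106 then (Wt_101_106 j) else (Wt_106_111 j)
def Wt_92_111 (j : ℕ) : List ℕ := bif Nat.blt j 101 then (Wt_92_101 j) else (Wt_101_111 j)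
def Wt_74_111 (j : ℕ) : List ℕ := bif Nat.blt j 92 then (Wt_74_92 j) else (Wt_92_111 j)
def Wt_111_113 (j : ℕ) : List ℕ := bif Nat.blt j 112 then [nat_lit 0, nat_lit 2, nat_lit 5, nat_lit 3, nat_lit 2, nat_lit 1, nat_lit 5, nat_lit 0, nat_lit 2, nat_lit 5, nat_lit 3, nat_lit 2, nat_lit 1, nat_lit 5] else [nat_lit 2, nat_lit 0, nat_lit 5, nat_lit 1, nat_lit 2, nat_lit 5, nat_lit 2, nat_lit 0, nat_lit 5, nat_lit 1, nat_lit 2, nat_lit 5]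
def Wt_113_115 (j : ℕ) : List ℕ := bif Nat.blt j 114 then [nat_lit 3, nat_lit 0, nat_lit 1, nat_lit 3, nat_lit 1, nat_lit 5, nat_lit 3, nat_lit 0, nat_lit 1, nat_lit 3, nat_lit 1, nat_lit 5] else [nat_lit 2, nat_lit 1, nat_lit 5, nat_lit 3, nat_lit 5, nat_lit 2, nat_lit 1, nat_lit 5, nat_lit 3, nat_lit 5, nat_lit 2, nat_lit 1, nat_lit 5, nat_lit 3, nat_lit 5]
def Wt_111_115 (j : ℕ) : List ℕ := bif Nat.blt j 113 then (Wt_111_113 j) else (Wt_113_115 j)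
def Wt_115_117 (j : ℕ) : List ℕ := bif Nat.blt j 116 then [nat_lit 4, nat_lit 3, nat_lit 4, nat_lit 3, nat_lit 4, nat_lit 3, nat_lit 4, nat_lit 3] else [nat_lit 0, nat_lit 2, nat_lit 4, nat_lit 3, nat_lit 4, nat_lit 2, nat_lit 0, nat_lit 4]
def Wt_118_120 (j : ℕ) : List ℕ := bif Nat.blt j 119 then [nat_lit 2, nat_lit 0, nat_lit 3, nat_lit 1, nat_lit 4, nat_lit 2, nat_lit 0, nat_lit 3, nat_lit 1, nat_lit 4, nat_lit 2, nat_lit 0, nat_lit 3, nat_lit 1, nat_lit 4] else [nat_lit 3, nat_lit 2, nat_lit 3, nat_lit 4, nat_lit 1, nat_lit 0, nat_lit 4]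
def Wt_117_120 (j : ℕ) : List ℕ := bif Nat.blt j 118 then [nat_lit 5, nat_lit 1, nat_lit 2, nat_lit 3, nat_lit 5, nat_lit 2, nat_lit 0, nat_lit 5, nat_lit 1, nat_lit 2, nat_lit 3, nat_lit 5, nat_lit 2, nat_lit 0] else (Wt_118_120 j)
def Wt_115_120 (j : ℕ) : List ℕ := bif Nat.blt j 117 then (Wt_115_117 j) else (Wt_117_120 j)
def Wt_111_120 (j : ℕ) : List ℕ := bif Nat.blt j 115 then (Wt_111_115 j) else (Wt_115_120 j)
def Wt_120_122 (j : ℕ) : List ℕ := bif Nat.blt j 121 then [nat_lit 4, nat_lit 3, nat_lit 2, nat_lit 0, nat_lit 4, nat_lit 0, nat_lit 1, nat_lit 4, nat_lit 3, nat_lit 2, nat_lit 0, nat_lit 4, nat_lit 0, nat_lit 1] else [nat_lit 4, nat_lit 0, nat_lit 2, nat_lit 0, nat_lit 4, nat_lit 1, nat_lit 2, nat_lit 4, nat_lit 0, nat_lit 2, nat_lit 0, nat_lit 4, nat_lit 1, nat_lit 2]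
def Wt_123_125 (j : ℕ) : List ℕ := bif Nat.blt j 124 then [nat_lit 3, nat_lit 4, nat_lit 2, nat_lit 3, nat_lit 4, nat_lit 3, nat_lit 4, nat_lit 2, nat_lit 3, nat_lit 4, nat_lit 3, nat_lit 4, nat_lit 2, nat_lit 3, nat_lit 4] else [nat_lit 4, nat_lit 2, nat_lit 5, nat_lit 2, nat_lit 5, nat_lit 4, nat_lit 2, nat_lit 5, nat_lit 2, nat_lit 5, nat_lit 4, nat_lit 2, nat_lit 5, nat_lit 2, nat_lit 5]
def Wt_122_125 (j : ℕ) : List ℕ := bif Nat.blt j 123 then [nat_lit 5, nat_lit 4, nat_lit 2, nat_lit 5, nat_lit 2, nat_lit 5, nat_lit 4, nat_lit 2, nat_lit 5, nat_lit 2, nat_lit 5, nat_lit 4, nat_lit 2, nat_lit 5, nat_lit 2] else (Wt_123_125 j)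
def Wt_120_125 (j : ℕ) : List ℕ := bif Nat.blt j 122 then (Wt_120_122 j) else (Wt_122_125 j)
def Wt_125_127 (j : ℕ) : List ℕ := bif Nat.blt j 126 then [nat_lit 0, nat_lit 4, nat_lit 1, nat_lit 2, nat_lit 4, nat_lit 0, nat_lit 2, nat_lit 0, nat_lit 4, nat_lit 1, nat_lit 2, nat_lit 4, nat_lit 0, nat_lit 2] else [nat_lit 4, nat_lit 2, nat_lit 0, nat_lit 4, nat_lit 0, nat_lit 2, nat_lit 4, nat_lit 3]
def Wt_128_130 (j : ℕ) : List ℕ := bif Nat.blt j 129 then [nat_lit 5, nat_lit 3, nat_lit 2, nat_lit 1, nat_lit 5, nat_lit 0, nat_lit 2, nat_lit 5, nat_lit 3, nat_lit 2, nat_lit 1, nat_lit 5, nat_lit 0, nat_lit 2] else [nat_lit 5, nat_lit 4, nat_lit 1, nat_lit 5, nat_lit 4, nat_lit 5, nat_lit 4, nat_lit 1, nat_lit 5, nat_lit 4, nat_lit 5, nat_lit 4, nat_lit 1, nat_lit 5, nat_lit 4]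
def Wt_127_130 (j : ℕ) : List ℕ := bif Nat.blt j 128 then [nat_lit 3, nat_lit 0, nat_lit 2, nat_lit 4, nat_lit 1, nat_lit 3, nat_lit 0, nat_lit 2, nat_lit 4, nat_lit 1, nat_lit 3, nat_lit 0, nat_lit 2, nat_lit 4, nat_lit 1] else (Wt_128_130 j)
def Wt_125_130 (j : ℕ) : List ℕ := bif Nat.blt j 127 then (Wt_125_127 j) else (Wt_127_130 j)
def Wt_120_130 (j : ℕ) : List ℕ := bif Nat.blt j 125 then (Wt_120_125 j) else (Wt_125_130 j)
def Wt_111_130 (j : ℕ) : List ℕ := bif Nat.blt j 120 then (Wt_111_120 j) else (Wt_120_130 j)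
def Wt_130_132 (j : ℕ) : List ℕ := bif Nat.blt j 131 then [nat_lit 3, nat_lit 2, nat_lit 1, nat_lit 5, nat_lit 0, nat_lit 2, nat_lit 5, nat_lit 3, nat_lit 2, nat_lit 1, nat_lit 5, nat_lit 0, nat_lit 2, nat_lit 5] else [nat_lit 2, nat_lit 4, nat_lit 2, nat_lit 5, nat_lit 2, nat_lit 4, nat_lit 2, nat_lit 5, nat_lit 2, nat_lit 4, nat_lit 2, nat_lit 5]
def Wt_132_134 (j : ℕ) : List ℕ := bif Nat.blt j 133 then [nat_lit 0, nat_lit 4, nat_lit 0, nat_lit 4, nat_lit 2, nat_lit 1, nat_lit 0, nat_lit 2, nat_lit 4] else [nat_lit 1, nat_lit 4, nat_lit 1, nat_lit 4, nat_lit 3, nat_lit 1, nat_lit 0, nat_lit 3, nat_lit 4]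
def Wt_130_134 (j : ℕ) : List ℕ := bif Nat.blt j 132 then (Wt_130_132 j) else (Wt_132_134 j)
def Wt_134_136 (j : ℕ) : List ℕ := bif Nat.blt j 135 then [nat_lit 1, nat_lit 2, nat_lit 5, nat_lit 2, nat_lit 1, nat_lit 4, nat_lit 5, nat_lit 1, nat_lit 2, nat_lit 5, nat_lit 2, nat_lit 1, nat_lit 4, nat_lit 5] else [nat_lit 0, nat_lit 1, nat_lit 3, nat_lit 1, nat_lit 5, nat_lit 3, nat_lit 0, nat_lit 1, nat_lit 3, nat_lit 1, nat_lit 5, nat_lit 3]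
def Wt_137_139 (j : ℕ) : List ℕ := bif Nat.blt j 138 then [nat_lit 4, nat_lit 5, nat_lit 2, nat_lit 5, nat_lit 2, nat_lit 4, nat_lit 5, nat_lit 2, nat_lit 5, nat_lit 2, nat_lit 4, nat_lit 5, nat_lit 2, nat_lit 5, nat_lit 2] else [nat_lit 4, nat_lit 2, nat_lit 3, nat_lit 4, nat_lit 1, nat_lit 0, nat_lit 3, nat_lit 4, nat_lit 2, nat_lit 3, nat_lit 4, nat_lit 1, nat_lit 0, nat_lit 3]
def Wt_136_139 (j : ℕ) : List ℕ := bif Nat.blt j 137 then [nat_lit 1, nat_lit 5, nat_lit 3, nat_lit 5, nat_lit 2, nat_lit 1, nat_lit 5, nat_lit 3, nat_lit 5, nat_lit 2, nat_lit 1, nat_lit 5, nat_lit 3, nat_lit 5, nat_lit 2] else (Wt_137_139 j)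
def Wt_134_139 (j : ℕ) : List ℕ := bif Nat.blt j 136 then (Wt_134_136 j) else (Wt_136_139 j)
def Wt_130_139 (j : ℕ) : List ℕ := bif Nat.blt j 134 then (Wt_130_134 j) else (Wt_134_139 j)
def Wt_139_141 (j : ℕ) : List ℕ := bif Nat.blt j 140 then [nat_lit 1, nat_lit 4, nat_lit 5, nat_lit 4, nat_lit 5, nat_lit 1, nat_lit 4, nat_lit 5, nat_lit 4, nat_lit 5, nat_lit 1, nat_lit 4, nat_lit 5, nat_lit 4, nat_lit 5] else [nat_lit 3, nat_lit 2, nat_lit 4, nat_lit 3, nat_lit 4, nat_lit 3, nat_lit 2, nat_lit 4, nat_lit 3, nat_lit 4, nat_lit 3, nat_lit 2, nat_lit 4, nat_lit 3, nat_lit 4]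
def Wt_142_144 (j : ℕ) : List ℕ := bif Nat.blt j 143 then [nat_lit 0, nat_lit 1, nat_lit 4, nat_lit 3, nat_lit 2, nat_lit 0, nat_lit 4, nat_lit 0, nat_lit 1, nat_lit 4, nat_lit 3, nat_lit 2, nat_lit 0, nat_lit 4] else [nat_lit 2, nat_lit 5, nat_lit 2, nat_lit 5, nat_lit 4, nat_lit 2, nat_lit 5, nat_lit 2, nat_lit 5, nat_lit 4, nat_lit 2, nat_lit 5, nat_lit 2, nat_lit 5, nat_lit 4]
def Wt_141_144 (j : ℕ) : List ℕ := bif Nat.blt j 142 then [nat_lit 1, nat_lit 3, nat_lit 0, nat_lit 2, nat_lit 4, nat_lit 1, nat_lit 3, nat_lit 0, nat_lit 2, nat_lit 4, nat_lit 1, nat_lit 3, nat_lit 0, nat_lit 2, nat_lit 4] else (Wt_142_144 j)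
def Wt_139_144 (j : ℕ) : List ℕ := bif Nat.blt j 141 then (Wt_139_141 j) else (Wt_141_144 j)
def Wt_144_146 (j : ℕ) : List ℕ := bif Nat.blt j 145 then [nat_lit 1, nat_lit 4, nat_lit 3, nat_lit 2, nat_lit 4, nat_lit 3, nat_lit 0, nat_lit 1, nat_lit 4, nat_lit 3, nat_lit 2, nat_lit 4, nat_lit 3, nat_lit 0] else [nat_lit 2, nat_lit 5, nat_lit 3, nat_lit 5, nat_lit 1, nat_lit 2, nat_lit 5, nat_lit 3, nat_lit 5, nat_lit 1, nat_lit 2, nat_lit 5, nat_lit 3, nat_lit 5, nat_lit 1]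
def Wt_147_149 (j : ℕ) : List ℕ := bif Nat.blt j 148 then [nat_lit 4, nat_lit 2, nat_lit 3, nat_lit 2, nat_lit 4, nat_lit 0, nat_lit 1] else [nat_lit 0, nat_lit 4, nat_lit 0, nat_lit 1, nat_lit 4, nat_lit 3, nat_lit 2, nat_lit 0, nat_lit 4, nat_lit 0, nat_lit 1, nat_lit 4, nat_lit 3, nat_lit 2]
def Wt_146_149 (j : ℕ) : List ℕ := bif Nat.blt j 147 then [nat_lit 5, nat_lit 4, nat_lit 5, nat_lit 4, nat_lit 1, nat_lit 5, nat_lit 4, nat_lit 5, nat_lit 4, nat_lit 1, nat_lit 5, nat_lit 4, nat_lit 5, nat_lit 4, nat_lit 1] else (Wt_147_149 j)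
def Wt_144_149 (j : ℕ) : List ℕ := bif Nat.blt j 146 then (Wt_144_146 j) else (Wt_146_149 j)
def Wt_139_149 (j : ℕ) : List ℕ := bif Nat.blt j 144 then (Wt_139_144 j) else (Wt_144_149 j)
def Wt_130_149 (j : ℕ) : List ℕ := bif Nat.blt j 139 then (Wt_130_139 j) else (Wt_139_149 j)
def Wt_111_149 (j : ℕ) : List ℕ := bif Nat.blt j 130 then (Wt_111_130 j) else (Wt_130_149 j)
def Wt_74_149 (j : ℕ) : List ℕ := bif Nat.blt j 111 then (Wt_74_111 j) else (Wt_111_149 j)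
def Wt_0_149 (j : ℕ) : List ℕ := bif Nat.blt j 74 then (Wt_0_74 j) else (Wt_74_149 j)
def Wt (j : ℕ) : List ℕ := (Wt_0_149 j)
def W (j : ℕ) : List ℕ := bif Nat.blt j 149 then Wt j else []
theorem W_ge (j : ℕ) (h : 149 ≤ j) : W j = [] := by
  unfold W
  rw [blt_false_of_le h]
  rfl
def Hl : List ℕ := [nat_lit 0, nat_lit 1, nat_lit 2, nat_lit 3, nat_lit 4]
def isH (y : ℕ) : Bool := List.elem y Hl
def Rb : List (List ℕ) := [[nat_lit 0, nat_lit 0],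
  [nat_lit 1, nat_lit 1],
  [nat_lit 1, nat_lit 0, nat_lit 1, nat_lit 0],
  [nat_lit 2, nat_lit 2],
  [nat_lit 2, nat_lit 0, nat_lit 2, nat_lit 0, nat_lit 2, nat_lit 0, nat_lit 2, nat_lit 0],
  [nat_lit 2, nat_lit 1, nat_lit 2, nat_lit 1],
  [nat_lit 3, nat_lit 3],
  [nat_lit 0, nat_lit 1, nat_lit 3, nat_lit 0, nat_lit 3, nat_lit 2, nat_lit 0, nat_lit 1, nat_lit 3, nat_lit 0, nat_lit 3, nat_lit 2],
  [nat_lit 1, nat_lit 3, nat_lit 1, nat_lit 2, nat_lit 1, nat_lit 3, nat_lit 1, nat_lit 2, nat_lit 1, nat_lit 3, nat_lit 1, nat_lit 2],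
  [nat_lit 0, nat_lit 3, nat_lit 1, nat_lit 2, nat_lit 0, nat_lit 3, nat_lit 1, nat_lit 2, nat_lit 0, nat_lit 3, nat_lit 1, nat_lit 2],
  [nat_lit 3, nat_lit 1, nat_lit 3, nat_lit 2, nat_lit 0, nat_lit 1, nat_lit 3, nat_lit 1, nat_lit 3, nat_lit 2, nat_lit 0, nat_lit 1],
  [nat_lit 4, nat_lit 4],
  [nat_lit 3, nat_lit 4, nat_lit 3, nat_lit 2, nat_lit 4, nat_lit 3, nat_lit 4, nat_lit 3, nat_lit 2, nat_lit 4, nat_lit 3, nat_lit 4, nat_lit 3, nat_lit 2, nat_lit 4],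
  [nat_lit 1, nat_lit 4, nat_lit 2, nat_lit 0, nat_lit 3, nat_lit 1, nat_lit 4, nat_lit 2, nat_lit 0, nat_lit 3, nat_lit 1, nat_lit 4, nat_lit 2, nat_lit 0, nat_lit 3],
  [nat_lit 0, nat_lit 4, nat_lit 1, nat_lit 2, nat_lit 4, nat_lit 0, nat_lit 2, nat_lit 0, nat_lit 4, nat_lit 1, nat_lit 2, nat_lit 4, nat_lit 0, nat_lit 2],
  [nat_lit 4, nat_lit 1, nat_lit 0, nat_lit 3, nat_lit 4, nat_lit 2, nat_lit 3, nat_lit 4, nat_lit 1, nat_lit 0, nat_lit 3, nat_lit 4, nat_lit 2, nat_lit 3],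
  [nat_lit 4, nat_lit 3, nat_lit 2, nat_lit 0, nat_lit 4, nat_lit 0, nat_lit 1, nat_lit 4, nat_lit 3, nat_lit 2, nat_lit 0, nat_lit 4, nat_lit 0, nat_lit 1],
  [nat_lit 5, nat_lit 5],
  [nat_lit 2, nat_lit 5, nat_lit 4, nat_lit 2, nat_lit 5, nat_lit 2, nat_lit 5, nat_lit 4, nat_lit 2, nat_lit 5, nat_lit 2, nat_lit 5, nat_lit 4, nat_lit 2, nat_lit 5],
  [nat_lit 3, nat_lit 5, nat_lit 2, nat_lit 1, nat_lit 5, nat_lit 3, nat_lit 5, nat_lit 2, nat_lit 1, nat_lit 5, nat_lit 3, nat_lit 5, nat_lit 2, nat_lit 1, nat_lit 5],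
  [nat_lit 4, nat_lit 5, nat_lit 1, nat_lit 4, nat_lit 5, nat_lit 4, nat_lit 5, nat_lit 1, nat_lit 4, nat_lit 5, nat_lit 4, nat_lit 5, nat_lit 1, nat_lit 4, nat_lit 5],
  [nat_lit 5, nat_lit 2, nat_lit 3, nat_lit 5, nat_lit 1, nat_lit 5, nat_lit 2, nat_lit 3, nat_lit 5, nat_lit 1, nat_lit 5, nat_lit 2, nat_lit 3, nat_lit 5, nat_lit 1],
  [nat_lit 1, nat_lit 2, nat_lit 5, nat_lit 2, nat_lit 1, nat_lit 5, nat_lit 4, nat_lit 1, nat_lit 2, nat_lit 5, nat_lit 2, nat_lit 1, nat_lit 5, nat_lit 4],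
  [nat_lit 1, nat_lit 5, nat_lit 0, nat_lit 2, nat_lit 5, nat_lit 3, nat_lit 2, nat_lit 1, nat_lit 5, nat_lit 0, nat_lit 2, nat_lit 5, nat_lit 3, nat_lit 2],
  [nat_lit 5, nat_lit 2, nat_lit 4, nat_lit 2, nat_lit 5, nat_lit 2, nat_lit 4, nat_lit 2, nat_lit 5, nat_lit 2, nat_lit 4, nat_lit 2],
  [nat_lit 5, nat_lit 1, nat_lit 2, nat_lit 5, nat_lit 2, nat_lit 0, nat_lit 5, nat_lit 1, nat_lit 2, nat_lit 5, nat_lit 2, nat_lit 0],
  [nat_lit 5, nat_lit 0, nat_lit 4, nat_lit 0, nat_lit 5, nat_lit 0, nat_lit 4, nat_lit 0, nat_lit 5, nat_lit 0, nat_lit 4, nat_lit 0],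
  [nat_lit 5, nat_lit 3, nat_lit 0, nat_lit 1, nat_lit 3, nat_lit 1, nat_lit 5, nat_lit 3, nat_lit 0, nat_lit 1, nat_lit 3, nat_lit 1],
  [nat_lit 2, nat_lit 1, nat_lit 0, nat_lit 2, nat_lit 5, nat_lit 0, nat_lit 2, nat_lit 1, nat_lit 0, nat_lit 2, nat_lit 5, nat_lit 0],
  [nat_lit 5, nat_lit 0, nat_lit 3, nat_lit 5, nat_lit 3, nat_lit 5, nat_lit 0, nat_lit 3, nat_lit 5, nat_lit 3],
  [nat_lit 5, nat_lit 1, nat_lit 3, nat_lit 5, nat_lit 3, nat_lit 5, nat_lit 1, nat_lit 3, nat_lit 5, nat_lit 3],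
  [nat_lit 0, nat_lit 3, nat_lit 0, nat_lit 3],
  [nat_lit 0, nat_lit 1, nat_lit 3, nat_lit 0, nat_lit 3, nat_lit 1],
  [nat_lit 1, nat_lit 2, nat_lit 0, nat_lit 1, nat_lit 0, nat_lit 2],
  [nat_lit 0, nat_lit 2, nat_lit 3, nat_lit 1, nat_lit 3, nat_lit 2],
  [nat_lit 2, nat_lit 3, nat_lit 2, nat_lit 3, nat_lit 2, nat_lit 3],
  [nat_lit 2, nat_lit 4, nat_lit 2, nat_lit 4, nat_lit 2, nat_lit 4],
  [nat_lit 5, nat_lit 3, nat_lit 5, nat_lit 1, nat_lit 3, nat_lit 1, nat_lit 0],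
  [nat_lit 4, nat_lit 2, nat_lit 3, nat_lit 2, nat_lit 4, nat_lit 1, nat_lit 0],
  [nat_lit 4, nat_lit 3, nat_lit 2, nat_lit 3, nat_lit 4, nat_lit 1, nat_lit 0],
  [nat_lit 3, nat_lit 1, nat_lit 5, nat_lit 3, nat_lit 5, nat_lit 1, nat_lit 0],
  [nat_lit 5, nat_lit 1, nat_lit 2, nat_lit 5, nat_lit 0, nat_lit 2, nat_lit 0],
  [nat_lit 0, nat_lit 1, nat_lit 2, nat_lit 3, nat_lit 1, nat_lit 3, nat_lit 2, nat_lit 1],
  [nat_lit 1, nat_lit 2, nat_lit 0, nat_lit 2, nat_lit 1, nat_lit 2, nat_lit 0, nat_lit 2],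
  [nat_lit 0, nat_lit 2, nat_lit 0, nat_lit 3, nat_lit 1, nat_lit 3, nat_lit 0, nat_lit 2],
  [nat_lit 1, nat_lit 2, nat_lit 3, nat_lit 2, nat_lit 0, nat_lit 2, nat_lit 3, nat_lit 2],
  [nat_lit 1, nat_lit 5, nat_lit 1, nat_lit 2, nat_lit 3, nat_lit 5, nat_lit 3, nat_lit 2],
  [nat_lit 0, nat_lit 4, nat_lit 0, nat_lit 2, nat_lit 4, nat_lit 3, nat_lit 4, nat_lit 2],
  [nat_lit 1, nat_lit 3, nat_lit 5, nat_lit 3, nat_lit 2, nat_lit 1, nat_lit 5, nat_lit 2],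
  [nat_lit 1, nat_lit 3, nat_lit 5, nat_lit 3, nat_lit 1, nat_lit 2, nat_lit 5, nat_lit 2],
  [nat_lit 1, nat_lit 3, nat_lit 1, nat_lit 2, nat_lit 0, nat_lit 2, nat_lit 1, nat_lit 3],
  [nat_lit 2, nat_lit 0, nat_lit 3, nat_lit 2, nat_lit 3, nat_lit 2, nat_lit 1, nat_lit 3],
  [nat_lit 3, nat_lit 4, nat_lit 3, nat_lit 4, nat_lit 3, nat_lit 4, nat_lit 3, nat_lit 4],
  [nat_lit 0, nat_lit 5, nat_lit 0, nat_lit 5, nat_lit 0, nat_lit 5, nat_lit 0, nat_lit 5],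
  [nat_lit 3, nat_lit 5, nat_lit 0, nat_lit 5, nat_lit 3, nat_lit 5, nat_lit 0, nat_lit 5],
  [nat_lit 1, nat_lit 5, nat_lit 1, nat_lit 5, nat_lit 1, nat_lit 5, nat_lit 1, nat_lit 5],
  [nat_lit 2, nat_lit 5, nat_lit 1, nat_lit 5, nat_lit 2, nat_lit 5, nat_lit 1, nat_lit 5],
  [nat_lit 2, nat_lit 5, nat_lit 2, nat_lit 5, nat_lit 2, nat_lit 5, nat_lit 2, nat_lit 5],
  [nat_lit 3, nat_lit 5, nat_lit 3, nat_lit 5, nat_lit 3, nat_lit 5, nat_lit 3, nat_lit 5],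
  [nat_lit 4, nat_lit 5, nat_lit 4, nat_lit 5, nat_lit 4, nat_lit 5, nat_lit 4, nat_lit 5],
  [nat_lit 3, nat_lit 5, nat_lit 3, nat_lit 5, nat_lit 2, nat_lit 0, nat_lit 2, nat_lit 1, nat_lit 0],
  [nat_lit 2, nat_lit 5, nat_lit 3, nat_lit 5, nat_lit 3, nat_lit 0, nat_lit 2, nat_lit 1, nat_lit 0],
  [nat_lit 1, nat_lit 5, nat_lit 1, nat_lit 2, nat_lit 5, nat_lit 0, nat_lit 2, nat_lit 1, nat_lit 0],
  [nat_lit 2, nat_lit 5, nat_lit 3, nat_lit 5, nat_lit 0, nat_lit 3, nat_lit 2, nat_lit 1, nat_lit 0],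
  [nat_lit 2, nat_lit 0, nat_lit 5, nat_lit 3, nat_lit 5, nat_lit 3, nat_lit 2, nat_lit 1, nat_lit 0],
  [nat_lit 2, nat_lit 4, nat_lit 0, nat_lit 4, nat_lit 0, nat_lit 4, nat_lit 2, nat_lit 1, nat_lit 0],
  [nat_lit 4, nat_lit 2, nat_lit 3, nat_lit 4, nat_lit 2, nat_lit 4, nat_lit 2, nat_lit 1, nat_lit 0],
  [nat_lit 2, nat_lit 0, nat_lit 3, nat_lit 5, nat_lit 3, nat_lit 5, nat_lit 2, nat_lit 1, nat_lit 0],
  [nat_lit 5, nat_lit 3, nat_lit 5, nat_lit 2, nat_lit 1, nat_lit 2, nat_lit 3, nat_lit 1, nat_lit 0],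
  [nat_lit 3, nat_lit 5, nat_lit 1, nat_lit 2, nat_lit 5, nat_lit 2, nat_lit 3, nat_lit 1, nat_lit 0],
  [nat_lit 3, nat_lit 4, nat_lit 1, nat_lit 4, nat_lit 1, nat_lit 4, nat_lit 3, nat_lit 1, nat_lit 0],
  [nat_lit 3, nat_lit 2, nat_lit 5, nat_lit 2, nat_lit 1, nat_lit 5, nat_lit 3, nat_lit 1, nat_lit 0],
  [nat_lit 3, nat_lit 2, nat_lit 5, nat_lit 1, nat_lit 2, nat_lit 5, nat_lit 3, nat_lit 1, nat_lit 0],
  [nat_lit 2, nat_lit 0, nat_lit 2, nat_lit 5, nat_lit 3, nat_lit 5, nat_lit 3, nat_lit 1, nat_lit 0],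
  [nat_lit 4, nat_lit 1, nat_lit 2, nat_lit 3, nat_lit 2, nat_lit 0, nat_lit 4, nat_lit 1, nat_lit 0],
  [nat_lit 4, nat_lit 1, nat_lit 3, nat_lit 2, nat_lit 3, nat_lit 0, nat_lit 4, nat_lit 1, nat_lit 0],
  [nat_lit 4, nat_lit 0, nat_lit 2, nat_lit 3, nat_lit 2, nat_lit 1, nat_lit 4, nat_lit 1, nat_lit 0],
  [nat_lit 4, nat_lit 0, nat_lit 3, nat_lit 2, nat_lit 3, nat_lit 1, nat_lit 4, nat_lit 1, nat_lit 0],
  [nat_lit 3, nat_lit 1, nat_lit 5, nat_lit 0, nat_lit 3, nat_lit 0, nat_lit 5, nat_lit 1, nat_lit 0],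
  [nat_lit 1, nat_lit 2, nat_lit 0, nat_lit 5, nat_lit 1, nat_lit 2, nat_lit 5, nat_lit 1, nat_lit 0],
  [nat_lit 5, nat_lit 2, nat_lit 5, nat_lit 0, nat_lit 5, nat_lit 2, nat_lit 5, nat_lit 1, nat_lit 0],
  []]
def spT_1_3 (j : ℕ) : ℕ := bif Nat.blt j 2 then nat_lit 0x201b0000e05e0000201c0000602400000019000040240000a01c000020200000404e0000601a0000c02f0000605e0000006800006026000040360000a0320000602e0000603a000040340000602a000000240000601f0000006e0000c04e0000404c0000203a0000203300002028000060140000602b000040250000601e0000601c00004019000020180000a020000020130000a00e00004027000080250000002f0000c0a100004014000060340000e0880000207d000000060000a0780000802c0000202600000028000000760000405000000016000000020000004d0000802800000046000080360000405200008033000040260000a00f0000800e else nat_lit 0x80200000604d00008029000060270000c01f000080240000c0200000001b00006018000060280000a01e0000602500008026000060360000602d0000608c00006082000040300000c02e000020290000a02e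
def spT_0_3 (j : ℕ) : ℕ := bif Nat.blt j 1 then nat_lit 0x801b00006019000020240000401a0000805e0000204400002037000040a10000006a0000604a00000040000040180000600f0000401c00000008000000100000600e0000c05e00002048000060300000402e0000205a000080520000c01c0000a08d0000205e0000405e0000805800002008000020040000a04c000080440000a01f0000000a0000203e0000a05e000020460000604c000020300000404d000000480000808200002034000000200000003c000000380000802f0000002a0000204d0000c04c00002076000080a0000020700000206e000100a00000206a0000003a000040120000200a00000004000060520000c0520000003e0000404a else (spT_1_3 j)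
def spT (j : ℕ) : ℕ := (spT_0_3 j)
def sp (j : ℕ) : ℕ := Nat.land (Nat.shiftRight (spT (Nat.shiftRight j 6)) (Nat.mul (Nat.land j 63) 32)) 4294967295
theorem Eo_lt (r : ℕ) : Eo r < 18014398509481984 := land54_lt _
def cT (j : ℕ) : ℕ := nat_lit 0x7900007800007700007600007500007400007300007200007100007000006f00006e00006d00006c00006b00006a00006900006800006700006600006500006400006300006200006100006000005f00005e00005d00005c00005b00005a00005900005800005700005600005500005400005300005200005100005000004f00004e00004d00004c00004b00004a00004900004800004700004600004500004400004300004200004100004000003f00003e00003d00003b00003a00003900003800003700003600003500003400003300003200003100003000002f00002e00002d00002c00002b00002a00002900002800002700002500002400002300002200002100002000001f00001e00001d00001c00001b00001a00001900001800001700001600001500001400001300001200001100001000000f00000e00000d00000c00000b00000a000009000008000007000006000005000004000003000002000001000000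
noncomputable def cChunk (h : ℕ) : ℕ := Nat.rec (motive := fun _ => ℕ) (cT 0) (fun n _ => cT (Nat.succ n)) h
noncomputable def cF (i : ℕ) : ℕ := Nat.land (Nat.shiftRight (cChunk (Nat.shiftRight i 7)) (Nat.mul (Nat.land i 127) 24)) 16777215
theorem cF_lt (i : ℕ) : cF i < 16777216 := land24_lt _
theorem cF_zero : cF 0 = 0 := by decide +kernel
def nDef : ℕ := 121
def nEv : ℕ := 438
def nW : ℕ := 149
def N : ℕ := 120
def ys : List ℕ := [nat_lit 0, nat_lit 1, nat_lit 2, nat_lit 3, nat_lit 4, nat_lit 5]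
def Js : List ℕ := [nat_lit 0, nat_lit 1, nat_lit 2, nat_lit 3, nat_lit 4, nat_lit 5]
def Jp : List ℕ := [nat_lit 0, nat_lit 1, nat_lit 2, nat_lit 3, nat_lit 4]
end Cfsg.Agent.Lib.ToddCox.A82C0
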